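import Cfsg.Agent.H247.EPR.ReeBase
import Cfsg.Agent.H470.EPO.R1

/-!
# The rank one data of a small Ree group (own characteristic), part A (helper137)

* `r1` : the data;
* `T0_eq` : the torus is `{h a}`;
* `of_le` : `h a ∈ cj g B` with `h a ^ 18 ≠ 1` implies `g ∈ B ∪ n B`;
* `comm`, `inv`.
-/

set_option autoImplicit false
set_option linter.unusedSectionVars false

namespace Cfsg.Agent.H137.EPX.R1Ree

open Subgroup Cfsg.Agent.H284 Cfsg.Agent.H470.EPO
open Cfsg.Agent.LieRecognition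
open Cfsg.Agent.LieRecognition.ReeAbs

variable {K : Type} [Field K] [Fintype K] {G : Type} [Group G] [Finite G] {m : ℕ} {U : K → K → K → G} {h : Kˣ → G}
  {n : G} (D : ReeAbs.Data m U h n)

include D

theorem n_inv : n⁻¹ = n := inv_eq_of_mul_eq_one_right D.n_n

theorem h_n (a : Kˣ) : h a * n = n * h a⁻¹ := by rw [D.n_h, inv_inv]

theorem n_notMem : n ∉ ReeSplit.bSub D := by
  rintro ⟨t, u, v, a, e⟩
  apply D.ne t u v a 0 0 0 1 0 0 0
  rw [← e, D.U_zero, D.h_one, one_mul, one_mul, mul_one]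

theorem norm_U : normalizer (ReeSylowThree.uSub D : Set G) = ReeSplit.bSub D := by
  ext g
  constructor
  · intro hg
    have hx : U 0 0 1 ∈ ReeSylowThree.uSub D := ⟨0, 0, 1, rfl⟩
    have hx1 : U 0 0 1 ≠ 1 := by
      intro e
      rw [← D.U_zero] at e
      obtain ⟨-, -, h1⟩ := ReeSylowThree.U_injective D e
      exact one_ne_zero h1
    exact ReeSplit.mem_bSub_of_inv_conj_mem D hx hx1 ((mem_normalizer_iff''.1 hg _).1 hx)
  · intro hg
    rw [mem_normalizer_iff]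
    intro x
    constructor
    · exact fun hx => ReeSplit.conj_mem_uSub D hg hx
    · intro hx
      have := ReeSplit.inv_conj_mem_uSub D hg hx
      have e : g⁻¹ * (g * x * g⁻¹) * g = x := by group
      rwa [e] at this

theorem inf_cj : ReeSylowThree.uSub D ⊓ cj n (ReeSplit.bSub D) = ⊥ := by
  rw [Subgroup.eq_bot_iff_forall]
  intro x hx
  obtain ⟨⟨t, u, v, rfl⟩, h2⟩ := mem_inf.1 hx
  rw [mem_cj, n_inv D] at h2
  obtain ⟨t', u', v', a, h3⟩ := h2
  obtain ⟨t'', u'', v'', h4⟩ : ∃ t'' u'' v'', U t' u' v' * h a = h a * U t'' u'' v'' := by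
    obtain ⟨t'', u'', v'', h4⟩ := ReeSplit.inv_conj_mem_uSub D (ReeSplit.h_mem_bSub D a)
      (⟨t', u', v', rfl⟩ : U t' u' v' ∈ ReeSylowThree.uSub D)
    refine ⟨t'', u'', v'', ?_⟩
    rw [← h4]
    group
  have h5 : U t u v * h 1 * n * U 0 0 0 = U 0 0 0 * h a⁻¹ * n * U t'' u'' v'' := by
    rw [D.h_one, D.U_zero, mul_one, mul_one, one_mul]
    calc U t u v * n = n * (n * U t u v * n) := by
          rw [← mul_assoc, ← mul_assoc, D.n_n, one_mul]
      _ = n * (h a * U t'' u'' v'') := by rw [h3, h4]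
      _ = (n * h a) * U t'' u'' v'' := by rw [mul_assoc]
      _ = h a⁻¹ * n * U t'' u'' v'' := by rw [D.n_h]
  obtain ⟨rfl, rfl, rfl, -⟩ := D.inj₂ _ _ _ _ _ _ _ _ _ _ _ _ _ _ h5
  exact D.U_zero

/-- the rank one data -/
def r1 (hK : Fintype.card K = 3 ^ (2 * m + 1)) : R1 3 G where
  U := ReeSylowThree.uSub D
  B := ReeSplit.bSub D
  w := n
  nU := norm_U D
  pU := Cfsg.Agent.H247.EPR.isPGroup_uSub D hK
  mU := by
    intro S hS hp
    obtain ⟨P, hP⟩ := Cfsg.Agent.H247.EPR.exists_sylow_uSub D hK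
    rw [← hP] at hS ⊢
    exact P.is_maximal' hp hS
  wB := n_notMem D
  ww := by
    rw [D.n_n]
    exact one_mem _
  tr := by
    intro g hg
    rcases D.bruhat g with ⟨t, u, v, a, rfl⟩ | ⟨t, u, v, a, t', u', v', rfl⟩
    · exact absurd ⟨t, u, v, a, rfl⟩ hg
    · refine ⟨U t u v, ⟨t, u, v, rfl⟩, h a⁻¹ * U t' u' v', mul_mem (ReeSplit.h_mem_bSub D _)
        (ReeSplit.uSub_le_bSub D ⟨t', u', v', rfl⟩), ?_⟩
      rw [mul_assoc (U t u v) (h a) n, h_n D]
      group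
  ti := inf_cj D

variable (hK : Fintype.card K = 3 ^ (2 * m + 1))

theorem U_eq : (r1 D hK).U = ReeSylowThree.uSub D := rfl

theorem B_eq : (r1 D hK).B = ReeSplit.bSub D := rfl

theorem w_eq : (r1 D hK).w = n := rfl

theorem h_mem_cj (a : Kˣ) : h a ∈ cj n (ReeSplit.bSub D) := by
  rw [mem_cj, n_inv D, D.n_h, mul_assoc, D.n_n, mul_one]
  exact ReeSplit.h_mem_bSub D _

theorem inf_eq : ReeSplit.bSub D ⊓ cj n (ReeSplit.bSub D) = ReeSplit.hSub D := by
  apply le_antisymm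
  · intro x hx
    obtain ⟨⟨t, u, v, a, rfl⟩, h2⟩ := mem_inf.1 hx
    have h3 : U t u v ∈ ReeSylowThree.uSub D ⊓ cj n (ReeSplit.bSub D) := by
      refine mem_inf.2 ⟨⟨t, u, v, rfl⟩, ?_⟩
      have := mul_mem h2 (inv_mem (h_mem_cj D a))
      rwa [mul_inv_cancel_right] at this
    rw [inf_cj D, mem_bot] at h3
    rw [h3, one_mul]
    exact (ReeSplit.mem_hSub D).2 ⟨a, rfl⟩
  · intro x hx
    obtain ⟨a, rfl⟩ := (ReeSplit.mem_hSub D).1 hx
    exact mem_inf.2 ⟨ReeSplit.h_mem_bSub D a, h_mem_cj D a⟩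

theorem T0_eq : (r1 D hK).T0 = ReeSplit.hSub D := inf_eq D

include hK

theorem exists_big (hm : 1 ≤ m) : ∃ a : Kˣ, h a ^ 18 ≠ 1 := by
  obtain ⟨a, ha⟩ := IsCyclic.exists_generator (α := Kˣ)
  refine ⟨a, fun e => ?_⟩
  have h1 : orderOf a = Nat.card Kˣ := orderOf_eq_card_of_forall_mem_zpowers ha
  rw [Nat.card_units, Nat.card_eq_fintype_card, hK] at h1
  have h2 : orderOf a ∣ 18 := by
    rw [orderOf_dvd_iff_pow_eq_one, ← ReeSplit.h_eq_iff D, ReeSplit.h_pow D, e, D.h_one]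
  have h3 := Nat.le_of_dvd (by norm_num) h2
  have h4 : 27 ≤ 3 ^ (2 * m + 1) := by
    calc 27 = 3 ^ 3 := by norm_num
      _ ≤ 3 ^ (2 * m + 1) := Nat.pow_le_pow_right (by norm_num) (by omega)
  omega

theorem sq_ne_of_big {a : Kˣ} (ha : h a ^ 18 ≠ 1) : a ^ 2 ≠ 1 := by
  intro e
  apply ha
  rw [← ReeSplit.h_pow D, show 18 = 2 * 9 by norm_num, pow_mul, e, one_pow, D.h_one]

/-- two Borel subgroups contain `h a` -/
theorem of_mem {a : Kˣ} (ha : h a ^ 18 ≠ 1) {g : G} (hg : h a ∈ cj g (ReeSplit.bSub D)) :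
    g ∈ ReeSplit.bSub D ∨ ∃ b ∈ ReeSplit.bSub D, g = n * b := by
  by_cases hgB : g ∈ ReeSplit.bSub D
  · exact Or.inl hgB
  right
  obtain ⟨u, hu, b, hb, rfl⟩ := (r1 D hK).tr g hgB
  change u ∈ ReeSylowThree.uSub D at hu
  change b ∈ ReeSplit.bSub D at hb
  change h a ∈ cj (u * n * b) (ReeSplit.bSub D) at hg
  refine ⟨b, hb, ?_⟩
  rw [cj_mul, cj_eq_self hb, cj_mul, mem_cj] at hg
  have h1 : u⁻¹ * h a * u ∈ ReeSplit.hSub D := by
    rw [← inf_eq D]
    refine mem_inf.2 ⟨?_, hg⟩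
    exact mul_mem (mul_mem (inv_mem (ReeSplit.uSub_le_bSub D hu)) (ReeSplit.h_mem_bSub D a))
      (ReeSplit.uSub_le_bSub D hu)
  have h2 : (h a)⁻¹ * (u⁻¹ * h a * u) ∈ ReeSylowThree.uSub D ⊓ cj n (ReeSplit.bSub D) := by
    refine mem_inf.2 ⟨?_, ?_⟩
    · have h3 := ReeSplit.inv_conj_mem_uSub D (ReeSplit.h_mem_bSub D a) (inv_mem hu)
      have h4 := mul_mem h3 hu
      have e : (h a)⁻¹ * (u⁻¹ * h a * u) = (h a)⁻¹ * u⁻¹ * h a * u := by group
      rwa [e]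
    · refine mul_mem (inv_mem (h_mem_cj D a)) ?_
      have := inf_eq D
      rw [← this] at h1
      exact (mem_inf.1 h1).2
  rw [inf_cj D, mem_bot, inv_mul_eq_one] at h2
  have h3 : h a * u = u * h a := by
    nth_rw 2 [h2]
    group
  have h4 : u = 1 := by
    by_contra hne
    exact ha (ReeSplit.pow_eighteen_of_commute D hK hu hne h3)
  rw [h4, one_mul]
  rfl

theorem cj_of_mem {a : Kˣ} (ha : h a ^ 18 ≠ 1) {g : G} (hg : h a ∈ cj g (ReeSplit.bSub D)) :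
    (cj g (ReeSplit.bSub D) = ReeSplit.bSub D ∧ cj g (ReeSylowThree.uSub D) = ReeSylowThree.uSub D) ∨
      (cj g (ReeSplit.bSub D) = cj n (ReeSplit.bSub D) ∧ cj g (ReeSylowThree.uSub D) = cj n (ReeSylowThree.uSub D)) := by
  have hU : ∀ b ∈ ReeSplit.bSub D, cj b (ReeSylowThree.uSub D) = ReeSylowThree.uSub D := by
    intro b hb
    ext x
    rw [mem_cj]
    constructor
    · intro hx
      have := ReeSplit.conj_mem_uSub D hb hx
      have e : b * (b⁻¹ * x * b) * b⁻¹ = x := by group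
      rwa [e] at this
    · exact fun hx => ReeSplit.inv_conj_mem_uSub D hb hx
  rcases of_mem D hK ha hg with h1 | ⟨b, hb, rfl⟩
  · exact Or.inl ⟨cj_eq_self h1, hU g h1⟩
  · right
    rw [cj_mul, cj_mul, cj_eq_self hb, hU b hb]
    exact ⟨rfl, rfl⟩

/-- `[U, T0] = U` -/
theorem comm (hm : 1 ≤ m) : ∀ X : Subgroup G, X ≤ (r1 D hK).U →
    (∀ u ∈ (r1 D hK).U, ∀ t ∈ (r1 D hK).T0, u * t * u⁻¹ * t⁻¹ ∈ X) → X = (r1 D hK).U := by
  intro X hX hXc
  obtain ⟨a, ha⟩ := exists_big D hK hm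
  apply le_antisymm hX
  let φ : ReeSylowThree.uSub D → ReeSylowThree.uSub D := fun u => ⟨u * h a * (u : G)⁻¹ * (h a)⁻¹, by
    have h1 := ReeSplit.conj_mem_uSub D (ReeSplit.h_mem_bSub D a) (inv_mem u.2)
    have h2 := mul_mem u.2 h1
    have e : (u : G) * h a * (u : G)⁻¹ * (h a)⁻¹ = u * (h a * (u : G)⁻¹ * (h a)⁻¹) := by group
    rwa [e]⟩
  have hφ : Function.Injective φ := by
    intro u v e
    have e1 : (u : G) * h a * (u : G)⁻¹ * (h a)⁻¹ = v * h a * (v : G)⁻¹ * (h a)⁻¹ := Subtype.ext_iff.1 e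
    have e2 : (u : G) * h a * (u : G)⁻¹ = v * h a * (v : G)⁻¹ := mul_right_cancel e1
    have e3 : h a * ((v : G)⁻¹ * u) = (v : G)⁻¹ * u * h a := by
      have e4 : (u : G) * h a = v * h a * (v : G)⁻¹ * u := mul_inv_eq_iff_eq_mul.1 e2
      calc h a * ((v : G)⁻¹ * u) = (v : G)⁻¹ * (v * h a * (v : G)⁻¹ * u) := by group
        _ = (v : G)⁻¹ * (u * h a) := by rw [← e4]
        _ = _ := by group
    have e5 : (v : G)⁻¹ * u = 1 := by
      by_contra hne
      exact ha (ReeSplit.pow_eighteen_of_commute D hK (mul_mem (inv_mem v.2) u.2) hne e3)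
    rw [inv_mul_eq_one] at e5
    exact Subtype.ext e5.symm
  intro x hx
  obtain ⟨u, hu⟩ := (Finite.injective_iff_surjective.1 hφ) ⟨x, hx⟩
  have h1 := hXc u u.2 (h a) (by
    rw [T0_eq D hK]
    exact (ReeSplit.mem_hSub D).2 ⟨a, rfl⟩)
  have h2 : (u : G) * h a * (u : G)⁻¹ * (h a)⁻¹ = x := Subtype.ext_iff.1 hu
  rwa [h2] at h1

/-- the exponent is a permutation -/
theorem exists_root (c : Kˣ) : ∃ a : Kˣ, a ^ (2 * 3 ^ (m + 1) + 3) = c := by
  have h1 : Function.Injective (fun a : Kˣ => a ^ (2 * 3 ^ (m + 1) + 3)) := by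
    intro a b e
    have e1 : a ^ (2 * 3 ^ (m + 1) + 3) = b ^ (2 * 3 ^ (m + 1) + 3) := e
    have e2 : (a * b⁻¹) ^ (2 * 3 ^ (m + 1) + 3) = 1 := by
      rw [mul_pow, e1, ← mul_pow, mul_inv_cancel, one_pow]
    have e3 := ReeTorus.eq_one_of_pow_two_mul_add_three hK _ e2
    rwa [mul_inv_eq_one] at e3
  exact Finite.injective_iff_surjective.1 h1 c

omit hK in
/-- the centre of `U` -/
theorem central {x : G} (hx : x ∈ ReeSylowThree.uSub D) (hc : ∀ y ∈ ReeSylowThree.uSub D, x * y = y * x) :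
    ∃ v, x = U 0 0 v := by
  obtain ⟨t, u, v, rfl⟩ := hx
  have h0 : (0 : K) ^ (3 ^ (m + 1)) = 0 := zero_pow (by positivity)
  have h1 := hc _ ⟨0, 1, 0, rfl⟩
  rw [D.U_mul, D.U_mul] at h1
  obtain ⟨-, -, h2⟩ := ReeSylowThree.U_injective D h1
  simp only [h0, mul_zero, sub_zero, add_zero, zero_mul, zero_add, one_mul, ne_eq, OfNat.ofNat_ne_zero,
    not_false_eq_true, zero_pow] at h2
  have ht : t = 0 := by
    have : v = v - t := h2
    linear_combination this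
  subst ht
  have h4 := hc _ ⟨1, 0, 0, rfl⟩
  rw [D.U_mul, D.U_mul] at h4
  obtain ⟨-, -, h5⟩ := ReeSylowThree.U_injective D h4
  simp only [h0, mul_zero, sub_zero, add_zero, zero_add, mul_one, one_pow, ne_eq,
    OfNat.ofNat_ne_zero, not_false_eq_true, zero_pow] at h5
  have hu : u = 0 := by linear_combination -h5
  exact ⟨v, by rw [hu]⟩

omit hK in
theorem U_zz (v w : K) : U 0 0 v * U 0 0 w = U 0 0 (v + w) := by
  have h0 : (0 : K) ^ (3 ^ (m + 1)) = 0 := zero_pow (by positivity)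
  rw [D.U_mul]
  simp [h0]

omit hK in
theorem U_zz_ne {v : K} (hv : v ≠ 0) : U 0 0 v ≠ 1 := by
  intro e
  rw [← D.U_zero] at e
  obtain ⟨-, -, h1⟩ := ReeSylowThree.U_injective D e
  exact hv h1

/-- an automorphism which centralises `T0` normalises `B` -/
theorem inv (hm : 1 ≤ m) : ∀ φ : MulAut G, (∀ t ∈ (r1 D hK).T0, φ t = t) → ∀ b ∈ (r1 D hK).B,
    φ b ∈ (r1 D hK).B := by
  intro φ hφ b hb
  change b ∈ ReeSplit.bSub D at hb
  change φ b ∈ ReeSplit.bSub D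
  have hφh : ∀ a, φ (h a) = h a := fun a => hφ _ (by
    rw [T0_eq D hK]
    exact (ReeSplit.mem_hSub D).2 ⟨a, rfl⟩)
  obtain ⟨a, ha⟩ := exists_big D hK hm
  obtain ⟨P, hP⟩ := Cfsg.Agent.H247.EPR.exists_sylow_uSub D hK
  obtain ⟨g, hg⟩ := MulAction.exists_smul_eq G P (φ • P)
  have h1 : ∀ y : G, y ∈ ReeSylowThree.uSub D ↔ φ y ∈ cj g (ReeSylowThree.uSub D) := by
    intro y
    have h2 : φ y ∈ ((φ • P : Sylow 3 G) : Subgroup G) ↔ y ∈ (P : Subgroup G) := by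
      rw [Sylow.pointwise_smul_def]
      exact Subgroup.smul_mem_pointwise_smul_iff (a := φ) (S := (P : Subgroup G)) (x := y)
    rw [← hg, Sylow.coe_subgroup_smul, hP] at h2
    rw [← h2, Subgroup.mem_pointwise_smul_iff_inv_smul_mem, mem_cj]
    rfl
  have h2 : ∀ y ∈ ReeSplit.bSub D, φ y ∈ cj g (ReeSplit.bSub D) := by
    intro y hy
    rw [mem_cj]
    rw [← norm_U D] at hy ⊢
    rw [mem_normalizer_iff]
    have key : ∀ z, z ∈ ReeSylowThree.uSub D ↔ φ.symm (g * z * g⁻¹) ∈ ReeSylowThree.uSub D := by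
      intro z
      rw [h1 (φ.symm (g * z * g⁻¹)), MulEquiv.apply_symm_apply, mem_cj]
      have e : g⁻¹ * (g * z * g⁻¹) * g = z := by group
      rw [e]
    intro z
    rw [key, key (g⁻¹ * φ y * g * z * (g⁻¹ * φ y * g)⁻¹)]
    have e : φ.symm (g * (g⁻¹ * φ y * g * z * (g⁻¹ * φ y * g)⁻¹) * g⁻¹) = y * φ.symm (g * z * g⁻¹) * y⁻¹ := by
      rw [← φ.symm_apply_apply y, ← map_mul, ← map_inv, ← map_mul, φ.apply_symm_apply]
      congr 1
      group
    rw [e]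
    exact mem_normalizer_iff.1 hy _
  rcases cj_of_mem D hK ha (g := g) (by
    have := h2 _ (ReeSplit.h_mem_bSub D a)
    rwa [hφh] at this) with ⟨h3, -⟩ | ⟨-, h4⟩
  · rw [← h3]
    exact h2 b hb
  exfalso
  rw [h4] at h1
  have hψ : ∀ x y : G, n * φ (x * y) * n = (n * φ x * n) * (n * φ y * n) := by
    intro x y
    rw [map_mul]
    have e : (n * φ x * n) * (n * φ y * n) = n * φ x * (n * n) * φ y * n := by group
    rw [e, D.n_n]
    group
  have hψU : ∀ x ∈ ReeSylowThree.uSub D, n * φ x * n ∈ ReeSylowThree.uSub D := by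
    intro x hx
    have := (h1 x).1 hx
    rwa [mem_cj, n_inv D] at this
  have hψi : ∀ x y : G, n * φ x * n = n * φ y * n → x = y := by
    intro x y e
    exact φ.injective (mul_left_cancel (mul_right_cancel e))
  have hψs : ∀ y ∈ ReeSylowThree.uSub D, ∃ x ∈ ReeSylowThree.uSub D, n * φ x * n = y := by
    intro y hy
    let ψ : ReeSylowThree.uSub D → ReeSylowThree.uSub D := fun x => ⟨n * φ x * n, hψU x x.2⟩
    have hi : Function.Injective ψ := fun x y e => Subtype.ext (hψi _ _ (Subtype.ext_iff.1 e))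
    obtain ⟨x, hx⟩ := (Finite.injective_iff_surjective.1 hi) ⟨y, hy⟩
    exact ⟨x, x.2, Subtype.ext_iff.1 hx⟩
  have hZ : ∀ v : K, ∃ v', n * φ (U 0 0 v) * n = U 0 0 v' := by
    intro v
    apply central D (hψU _ ⟨0, 0, v, rfl⟩)
    intro y hy
    obtain ⟨x, hx, rfl⟩ := hψs y hy
    rw [← hψ, ← hψ, Cfsg.Agent.H247.EPR.zU_comm D _ (Cfsg.Agent.H247.EPR.U_mem_zU D v) x hx]
  choose f hf using hZ
  have hadd : ∀ v w, f (v + w) = f v + f w := by
    intro v w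
    have h5 := hψ (U 0 0 v) (U 0 0 w)
    rw [U_zz D, hf, hf, hf, U_zz D] at h5
    obtain ⟨-, -, h6⟩ := ReeSylowThree.U_injective D h5
    exact h6
  have hne : f 1 ≠ 0 := by
    intro e
    have h5 := hf 1
    rw [e, D.U_zero] at h5
    have h6 : U 0 0 (1 : K) = 1 := by
      apply hψi
      rw [h5, map_one, mul_one, D.n_n]
    exact U_zz_ne D one_ne_zero h6
  have hmul : ∀ (c : Kˣ) (v : K), f (c * v) = (c : K)⁻¹ * f v := by
    intro c v
    obtain ⟨a, rfl⟩ := exists_root D hK c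
    have h5 := D.h_U a 0 0 v
    rw [mul_zero, mul_zero] at h5
    have h6 := hψ (h a) (U 0 0 v)
    have h7 := hψ (U 0 0 ((a : K) ^ (2 * 3 ^ (m + 1) + 3) * v)) (h a)
    rw [h5, h7, hf, hf, hφh, D.n_h, mul_assoc (h a⁻¹) n n, D.n_n, mul_one, D.h_U, mul_zero, mul_zero] at h6
    obtain ⟨-, -, h8⟩ := ReeSylowThree.U_injective D (mul_right_cancel h6)
    rw [Units.val_pow_eq_pow_val, h8, Units.val_inv_eq_inv_val, inv_pow]
  -- an element outside the prime field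
  have h27 : 27 ≤ 3 ^ (2 * m + 1) := by
    calc 27 = 3 ^ 3 := by norm_num
      _ ≤ 3 ^ (2 * m + 1) := Nat.pow_le_pow_right (by norm_num) (by omega)
  classical
  obtain ⟨c, hc⟩ : ∃ c : K, c ∉ ({0, 1, -1} : Finset K) := by
    by_contra hcon
    push Not at hcon
    have h5 : (Finset.univ : Finset K) ⊆ {0, 1, -1} := fun x _ => hcon x
    have h6 := Finset.card_le_card h5
    rw [Finset.card_univ, hK] at h6
    have h7 := Finset.card_le_three (a := (0 : K)) (b := 1) (c := -1)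
    omega
  simp only [Finset.mem_insert, Finset.mem_singleton, not_or] at hc
  obtain ⟨hc0, hc1, hc2⟩ := hc
  have hc3 : c + 1 ≠ 0 := fun e => hc2 (by linear_combination e)
  have h5 := hmul (Units.mk0 c hc0) 1
  have h6 := hmul (Units.mk0 (c + 1) hc3) 1
  rw [Units.val_mk0, mul_one] at h5 h6
  rw [hadd, h5] at h6
  have h7 : c⁻¹ + 1 = (c + 1)⁻¹ := by
    have : (c⁻¹ + 1) * f 1 = (c + 1)⁻¹ * f 1 := by
      rw [← h6]; ring
    exact mul_right_cancel₀ hne this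
  have h8 : (c⁻¹ + 1) * (c + 1) = 1 := by
    rw [h7, inv_mul_cancel₀ hc3]
  have h9 : (1 + c) * (c + 1) = c := by
    calc (1 + c) * (c + 1) = (c * c⁻¹ + c) * (c + 1) := by rw [mul_inv_cancel₀ hc0]
      _ = c * ((c⁻¹ + 1) * (c + 1)) := by ring
      _ = c := by rw [h8, mul_one]
  have h3 := ReeSplit.three_eq_zero hK
  have h10 : (c - 1) * (c - 1) = 0 := by linear_combination h9 - c * h3
  exact hc1 (sub_eq_zero.1 (mul_self_eq_zero.1 h10))

end Cfsg.Agent.H137.EPX.R1Ree
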