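import Cfsg.Agent.H137.EPX.R1ReeA

/-!
# The rank one data of a small Ree group (own characteristic), part B (helper137)

`centralises` : a subgroup `Y ≥ A` of order `q (q² - 1) / 2` with `q + 1` Sylow 3-subgroups, which is normalised by the
involution `h(-1)`, is centralised by `h(-1)`.
-/

set_option autoImplicit false
set_option linter.unusedSectionVars false

namespace Cfsg.Agent.H137.EPX.R1Ree

open Subgroup Cfsg.Agent.H284 Cfsg.Agent.H470.EPO MulAction
open Cfsg.Agent.LieRecognition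
open Cfsg.Agent.LieRecognition.ReeAbs
open scoped Pointwise

variable {K : Type} [Field K] [Fintype K] {G : Type} [Group G] [Finite G] {m : ℕ} {U : K → K → K → G} {h : Kˣ → G}
  {n : G} (D : ReeAbs.Data m U h n)

include D

theorem fix_iff (x g : G) : x • (g : G ⧸ ReeSplit.bSub D) = (g : G ⧸ ReeSplit.bSub D) ↔ x ∈ cj g (ReeSplit.bSub D) := by
  rw [← mem_stabilizer_iff]
  have h1 : (g : G ⧸ ReeSplit.bSub D) = g • ((1 : G) : G ⧸ ReeSplit.bSub D) := by
    rw [MulAction.Quotient.smul_coe, smul_eq_mul, mul_one]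
  rw [h1, stab_smul, MulAction.stabilizer_quotient]

theorem pt_eq (x y : G) : (x : G ⧸ ReeSplit.bSub D) = (y : G ⧸ ReeSplit.bSub D) ↔ x⁻¹ * y ∈ ReeSplit.bSub D :=
  QuotientGroup.eq

theorem smul_pt (x y : G) : x • (y : G ⧸ ReeSplit.bSub D) = ((x * y : G) : G ⧸ ReeSplit.bSub D) := rfl

/-- `U` acts semiregularly outside `∞` -/
theorem free_U {x y : G} (hx : x ∈ ReeSylowThree.uSub D) (hy : y ∈ ReeSylowThree.uSub D)
    (e : x • (n : G ⧸ ReeSplit.bSub D) = y • (n : G ⧸ ReeSplit.bSub D)) : x = y := by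
  have h1 : (y⁻¹ * x) • (n : G ⧸ ReeSplit.bSub D) = n := by
    rw [mul_smul, e, inv_smul_smul]
  rw [fix_iff] at h1
  have h2 : y⁻¹ * x ∈ ReeSylowThree.uSub D ⊓ cj n (ReeSplit.bSub D) := mem_inf.2 ⟨mul_mem (inv_mem hy) hx, h1⟩
  rw [inf_cj D, mem_bot, inv_mul_eq_one] at h2
  exact h2.symm

theorem inf_ne_zero : (n : G ⧸ ReeSplit.bSub D) ≠ ((1 : G) : G ⧸ ReeSplit.bSub D) := by
  rw [Ne, pt_eq, mul_one, n_inv D]
  exact n_notMem D

variable (hK : Fintype.card K = 3 ^ (2 * m + 1))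

include hK

/-- the fixed points of a big element of the torus -/
theorem fix_big {a : Kˣ} (ha : h a ^ 18 ≠ 1) (ω : G ⧸ ReeSplit.bSub D) (hω : h a • ω = ω) :
    ω = ((1 : G) : G ⧸ ReeSplit.bSub D) ∨ ω = (n : G ⧸ ReeSplit.bSub D) := by
  obtain ⟨g, rfl⟩ := QuotientGroup.mk_surjective ω
  rw [fix_iff] at hω
  rcases of_mem D hK ha hω with h1 | ⟨b, hb, rfl⟩
  · left
    rw [pt_eq, mul_one]
    exact inv_mem h1
  · right
    rw [pt_eq]
    have e : (n * b)⁻¹ * n = b⁻¹ := by group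
    rw [e]
    exact inv_mem hb

theorem exists_alpha (hm : 1 ≤ m) : ∃ r : ℕ, r.Prime ∧ r ≠ 2 ∧ r ∣ 3 ^ (2 * m + 1) - 1 ∧
    ∃ a : Kˣ, h a ∈ ReeSplit.aSub D ∧ orderOf (h a) = r ∧ h a ^ 18 ≠ 1 := by
  have h8 := three_pow_odd_mod m
  have hq : 27 ≤ 3 ^ (2 * m + 1) := by
    calc 27 = 3 ^ 3 := by norm_num
      _ ≤ 3 ^ (2 * m + 1) := Nat.pow_le_pow_right (by norm_num) (by omega)
  have hA := ReeSplit.card_aSub D hK
  have h9 : 3 ^ (2 * m + 1) % 3 = 0 := by
    rw [pow_succ]; omega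
  obtain ⟨r, hr, hrd⟩ := Nat.exists_prime_and_dvd (n := (3 ^ (2 * m + 1) - 1) / 2) (by omega)
  have hf := Fact.mk hr
  have hd : r ∣ 3 ^ (2 * m + 1) - 1 := hrd.trans ⟨2, by omega⟩
  have hr2 : r ≠ 2 := by
    rintro rfl
    omega
  have hr3 : r ≠ 3 := by
    rintro rfl
    omega
  obtain ⟨⟨x, hx⟩, hxo⟩ := exists_prime_orderOf_dvd_card' (G := ReeSplit.aSub D) r (by rw [hA]; exact hrd)
  rw [Subgroup.orderOf_mk] at hxo
  obtain ⟨a, -, rfl⟩ := (ReeSplit.mem_aSub D).1 hx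
  refine ⟨r, hr, hr2, hd, a, hx, hxo, fun e => ?_⟩
  have h1 := orderOf_dvd_of_pow_eq_one e
  rw [hxo, show 18 = 2 * 3 ^ 2 by norm_num, hr.dvd_mul] at h1
  rcases h1 with h1 | h1
  · exact hr2 ((Nat.prime_dvd_prime_iff_eq hr Nat.prime_two).1 h1)
  · exact hr3 ((Nat.prime_dvd_prime_iff_eq hr Nat.prime_three).1 (hr.dvd_of_dvd_pow h1))

/-- a subgroup of `U` normalised by `A` has order `1` modulo `(q-1)/2` -/
theorem card_modA {C : Subgroup G} (hC : C ≤ ReeSylowThree.uSub D)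
    (hn : ∀ x ∈ ReeSplit.aSub D, ∀ c ∈ C, x * c * x⁻¹ ∈ C) : (3 ^ (2 * m + 1) - 1) / 2 ∣ Nat.card C - 1 := by
  classical
  let A := ReeSplit.aSub D
  let S := {c : C // c ≠ 1}
  let act : MulAction A S :=
    { smul := fun x c => ⟨⟨x * (c.1 : G) * (x : G)⁻¹, hn x x.2 _ c.1.2⟩, fun e => c.2 (by
        have e1 : (x : G) * (c.1 : G) * (x : G)⁻¹ = 1 := Subtype.ext_iff.1 e
        rw [mul_inv_eq_one] at e1
        exact Subtype.ext (mul_eq_left.1 e1))⟩
      one_smul := fun c => Subtype.ext (Subtype.ext (by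
        show ((1 : A) : G) * (c.1 : G) * ((1 : A) : G)⁻¹ = _
        simp))
      mul_smul := fun x y c => Subtype.ext (Subtype.ext (by
        show ((x * y : A) : G) * (c.1 : G) * ((x * y : A) : G)⁻¹ = (x : G) * ((y : G) * (c.1 : G) * (y : G)⁻¹) * (x : G)⁻¹
        push_cast
        group)) }
  have hfree : ∀ b : S, stabilizer A b = ⊥ := by
    rintro ⟨⟨c, hc⟩, hc1⟩
    rw [Subgroup.eq_bot_iff_forall]
    rintro ⟨x, hx⟩ hxb
    rw [mem_stabilizer_iff] at hxb
    have h1 : x * c * x⁻¹ = c := Subtype.ext_iff.1 (Subtype.ext_iff.1 hxb)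
    have h2 : x * c = c * x := mul_inv_eq_iff_eq_mul.1 h1
    have hc1' : c ≠ 1 := fun e => hc1 (Subtype.ext e)
    by_contra hx1
    have hx1' : x ≠ 1 := fun e => hx1 (Subtype.ext e)
    have Dl := ReeSetup.local_of_data D hK
    -- `c` centralises `x`, so `c` is in the torus
    have h3 := Dl.cent_A x hx hx1' c h2.symm
    have h4 : c ∈ ReeSylowThree.uSub D ⊓ cj n (ReeSplit.bSub D) := by
      refine mem_inf.2 ⟨hC hc, ?_⟩
      obtain ⟨b, rfl⟩ := (ReeSplit.mem_hSub D).1 h3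
      exact h_mem_cj D b
    rw [inf_cj D, mem_bot] at h4
    exact hc1' h4
  have h1 := Nat.card_congr (selfEquivOrbitsQuotientProd hfree)
  rw [Nat.card_prod] at h1
  have h2 : Nat.card S = Nat.card C - 1 := by
    have := Fintype.ofFinite C
    rw [Nat.card_eq_fintype_card, Fintype.card_subtype_compl, Fintype.card_subtype_eq, ← Nat.card_eq_fintype_card]
  have h3 : Nat.card A = (3 ^ (2 * m + 1) - 1) / 2 := ReeSplit.card_aSub D hK
  rw [h2, h3] at h1
  exact ⟨_, by rw [h1, mul_comm]⟩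

/-- **The main lemma** -/
theorem centralises (hm : 1 ≤ m) {Y : Subgroup G}
    (hY : 2 * Nat.card Y = 3 ^ (2 * m + 1) * ((3 ^ (2 * m + 1)) ^ 2 - 1))
    (hnum : Nat.card (Sylow 3 Y) = 3 ^ (2 * m + 1) + 1) (hA : ReeSplit.aSub D ≤ Y)
    (ht : ∀ y ∈ Y, h (-1) * y * (h (-1))⁻¹ ∈ Y)
    (hV : ∃ V ≤ Y, 4 ≤ Nat.card V ∧ ∀ v ∈ V, v * v = 1 ∧ v * h (-1) = h (-1) * v) :
    ∀ y ∈ Y, y * h (-1) = h (-1) * y := by
  classical
  have h8 := three_pow_odd_mod m
  have hq : 27 ≤ 3 ^ (2 * m + 1) := by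
    calc 27 = 3 ^ 3 := by norm_num
      _ ≤ 3 ^ (2 * m + 1) := Nat.pow_le_pow_right (by norm_num) (by omega)
  have Dl := ReeSetup.local_of_data D hK
  set q := 3 ^ (2 * m + 1) with hqdef
  -- a Sylow 3-subgroup of `Y`
  obtain ⟨P⟩ : Nonempty (Sylow 3 Y) := inferInstance
  have hPq : q ≤ Nat.card (P : Subgroup Y) := by
    have h1 : q ∣ Nat.card Y := by
      have h2 : q ∣ 2 * Nat.card Y := by rw [hY]; exact Nat.dvd_mul_right _ _
      exact (Nat.Coprime.pow_left _ (by norm_num : Nat.Coprime 3 2)).dvd_of_dvd_mul_left h2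
    exact Nat.le_of_dvd Nat.card_pos (P.pow_dvd_card_of_pow_dvd_card h1)
  obtain ⟨R, hR⟩ := (P.isPGroup'.map Y.subtype).exists_le_sylow
  obtain ⟨R0, hR0⟩ := Cfsg.Agent.H247.EPR.exists_sylow_uSub D hK
  obtain ⟨g0, rfl⟩ := MulAction.exists_smul_eq G R0 R
  have hPg : ∀ x : Y, x ∈ (P : Subgroup Y) → g0⁻¹ * x * g0 ∈ ReeSylowThree.uSub D := by
    intro x hx
    have h1 : (x : G) ∈ MulAut.conj g0 • (R0 : Subgroup G) := hR ⟨x, hx, rfl⟩
    rw [Subgroup.mem_pointwise_smul_iff_inv_smul_mem, hR0] at h1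
    have e : (MulAut.conj g0)⁻¹ • (x : G) = g0⁻¹ * x * g0 := by
      rw [← map_inv]
      show g0⁻¹ * (x : G) * g0⁻¹⁻¹ = _
      rw [inv_inv]
    rwa [e] at h1
  obtain ⟨z, hzP, hz1⟩ : ∃ z ∈ (P : Subgroup Y), z ≠ 1 := by
    by_contra hcon
    push Not at hcon
    rw [(Subgroup.eq_bot_iff_forall _).2 hcon, Subgroup.card_bot] at hPq
    omega
  set ω0 : G ⧸ ReeSplit.bSub D := (g0 : G ⧸ ReeSplit.bSub D) with hω0
  have hstab : stabilizer Y ω0 = normalizer ((P : Subgroup Y) : Set Y) := by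
    ext y
    have h1 : y ∈ stabilizer Y ω0 ↔ (y : G) ∈ cj g0 (ReeSplit.bSub D) := by
      rw [mem_stabilizer_iff]
      exact fix_iff D y g0
    rw [h1, mem_cj]
    constructor
    · intro hy
      -- the 3-subgroup `Y ∩ cj g0 U`
      let Q : Subgroup Y := (cj g0 (ReeSylowThree.uSub D)).subgroupOf Y
      have hQp : IsPGroup 3 Q := by
        have h2 : IsPGroup 3 (cj g0 (ReeSylowThree.uSub D)) := (Cfsg.Agent.H247.EPR.isPGroup_uSub D hK).map _
        exact h2.comap_of_injective Y.subtype Y.subtype_injective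
      have hPQ : (P : Subgroup Y) ≤ Q := by
        intro x hx
        rw [Subgroup.mem_subgroupOf, mem_cj]
        exact hPg x hx
      have hQ : Q = P := P.is_maximal' hQp hPQ
      rw [mem_normalizer_iff]
      have key : ∀ y : Y, g0⁻¹ * y * g0 ∈ ReeSplit.bSub D → ∀ x ∈ (P : Subgroup Y), y * x * y⁻¹ ∈ (P : Subgroup Y) := by
        intro y hy x hx
        rw [← hQ] at hx ⊢
        rw [Subgroup.mem_subgroupOf, mem_cj] at hx ⊢
        have h3 := ReeSplit.conj_mem_uSub D hy hx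
        have e : g0⁻¹ * ((y * x * y⁻¹ : Y) : G) * g0 =
            g0⁻¹ * y * g0 * (g0⁻¹ * x * g0) * (g0⁻¹ * y * g0)⁻¹ := by
          push_cast
          group
        rwa [e]
      intro x
      refine ⟨key y hy x, fun hx => ?_⟩
      have h3 := key y⁻¹ (by
        have h4 := inv_mem hy
        have e : g0⁻¹ * ((y⁻¹ : Y) : G) * g0 = (g0⁻¹ * y * g0)⁻¹ := by
          push_cast
          group
        rwa [e]) _ hx
      have e : y⁻¹ * (y * x * y⁻¹) * y⁻¹⁻¹ = x := by group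
      rwa [e] at h3
    · intro hy
      have h2 := (mem_normalizer_iff''.1 hy z).1 hzP
      have h3 := hPg _ h2
      have h4 := hPg z hzP
      apply ReeSplit.mem_bSub_of_inv_conj_mem D h4 (fun e => hz1 (by
        have e1 : (z : G) = g0 * (g0⁻¹ * z * g0) * g0⁻¹ := by group
        rw [e, mul_one, mul_inv_cancel] at e1
        exact Subtype.ext e1))
      have e : (g0⁻¹ * (y : G) * g0)⁻¹ * (g0⁻¹ * z * g0) * (g0⁻¹ * y * g0) =
          g0⁻¹ * ((y⁻¹ * z * y : Y) : G) * g0 := by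
        push_cast
        group
      rwa [e]
  have hO : (orbit Y ω0).ncard = q + 1 := by
    have h1 := P.card_eq_index_normalizer
    rw [hnum] at h1
    rw [← MulAction.index_stabilizer, hstab]
    exact h1.symm
  set inf : G ⧸ ReeSplit.bSub D := ((1 : G) : G ⧸ ReeSplit.bSub D) with hinf
  set zer : G ⧸ ReeSplit.bSub D := (n : G ⧸ ReeSplit.bSub D) with hzer
  have hiz : zer ≠ inf := inf_ne_zero D
  have hfixB : ∀ x ∈ ReeSplit.bSub D, x • inf = inf := by
    intro x hx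
    rw [fix_iff, cj_one]
    exact hx
  have hmemB : ∀ x : G, x • inf = inf → x ∈ ReeSplit.bSub D := by
    intro x hx
    rw [fix_iff, cj_one] at hx
    exact hx
  have hinv : ∀ y ∈ Y, ∀ ω ∈ orbit Y ω0, y • ω ∈ orbit Y ω0 := by
    rintro y hy _ ⟨x, rfl⟩
    refine ⟨⟨y, hy⟩ * x, ?_⟩
    show ((⟨y, hy⟩ : Y) * x) • ω0 = y • (x • ω0)
    rw [mul_smul]
    rfl
  -- `∞` and `0` are in the orbit
  have hboth : inf ∈ orbit Y ω0 ∧ zer ∈ orbit Y ω0 := by
    obtain ⟨r, hr, hr2, hrd, a, haA, har, ha18⟩ := exists_alpha D hK hm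
    have hfr := Fact.mk hr
    let α : Y := ⟨h a, hA haA⟩
    have hαo : orderOf α = r := by rw [← har]; exact Subgroup.orderOf_mk _ _
    have hZp : IsPGroup r (zpowers α) := IsPGroup.of_card (n := 1) (by rw [Nat.card_zpowers, hαo, pow_one])
    have hmod := hZp.card_modEq_card_fixedPoints (orbit Y ω0)
    rw [Nat.card_coe_set_eq, hO] at hmod
    have hfp : ∀ ω ∈ fixedPoints (zpowers α) (orbit Y ω0), (ω : G ⧸ ReeSplit.bSub D) = inf ∨ (ω : G ⧸ ReeSplit.bSub D) = zer := by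
      intro ω hω
      apply fix_big D hK ha18
      have h1 := hω ⟨α, mem_zpowers α⟩
      exact congrArg Subtype.val h1
    by_contra hcon
    have hsub : Subsingleton (fixedPoints (zpowers α) (orbit Y ω0)) := by
      refine ⟨?_⟩
      rintro ⟨⟨x, hx⟩, hx'⟩ ⟨⟨y, hy⟩, hy'⟩
      have h1 : x = inf ∨ x = zer := hfp _ hx'
      have h2 : y = inf ∨ y = zer := hfp _ hy'
      have h3 : x = y := by
        rcases h1 with rfl | rfl <;> rcases h2 with rfl | rfl
        · rfl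
        · exact absurd ⟨hx, hy⟩ hcon
        · exact absurd ⟨hy, hx⟩ hcon
        · rfl
      subst h3
      rfl
    have h1 : Nat.card (fixedPoints (zpowers α) (orbit Y ω0)) ≤ 1 := Finite.card_le_one_iff_subsingleton.2 hsub
    obtain ⟨k, hk⟩ := hrd
    have h2 : q + 1 = 2 + r * k := by omega
    rw [h2] at hmod
    have h3 : 2 ≡ Nat.card (fixedPoints (zpowers α) (orbit Y ω0)) [MOD r] := by
      have h4 : 2 + r * k ≡ 2 [MOD r] := by
        have := Nat.modEq_zero_iff_dvd.2 (Dvd.intro k rfl : r ∣ r * k)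
        exact (Nat.ModEq.refl 2).add this
      exact h4.symm.trans hmod
    have hr3 : 3 ≤ r := by
      have := hr.two_le
      omega
    have h5 := Nat.ModEq.eq_of_lt_of_lt h3 (by omega) (by omega)
    omega
  obtain ⟨hI, hZ⟩ := hboth
  have hOmem : ∀ ω ∈ orbit Y ω0, ∀ ω' ∈ orbit Y ω0, ∃ y ∈ Y, y • ω = ω' := by
    rintro _ ⟨x, rfl⟩ _ ⟨x', rfl⟩
    refine ⟨((x' * x⁻¹ : Y) : G), (x' * x⁻¹).2, ?_⟩
    show (x' * x⁻¹ : Y) • x • ω0 = x' • ω0
    rw [mul_smul, inv_smul_smul]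
  -- the group `E = Y ∩ U`
  set E : Subgroup G := Y ⊓ ReeSylowThree.uSub D with hE
  have hEq : q ≤ Nat.card E := by
    obtain ⟨y, hy, hy1⟩ := hOmem ω0 (mem_orbit_self ω0) inf hI
    have h1 : y * g0 ∈ ReeSplit.bSub D := by
      have h2 : ((y * g0 : G) : G ⧸ ReeSplit.bSub D) = ((1 : G) : G ⧸ ReeSplit.bSub D) := hy1
      have h3 := (pt_eq D _ _).1 h2
      rw [mul_one] at h3
      have := inv_mem h3
      rwa [inv_inv] at this
    refine hPq.trans (Nat.card_le_card_of_injective (fun x : (P : Subgroup Y) =>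
      (⟨y * (x : Y) * y⁻¹, mem_inf.2 ⟨mul_mem (mul_mem hy (x : Y).2) (inv_mem hy), ?_⟩⟩ : E)) ?_)
    · have h2 := ReeSplit.conj_mem_uSub D h1 (hPg _ x.2)
      have e : y * g0 * (g0⁻¹ * ((x : Y) : G) * g0) * (y * g0)⁻¹ = y * ((x : Y) : G) * y⁻¹ := by group
      rwa [e] at h2
    · intro x x' e
      have e1 : y * ((x : Y) : G) * y⁻¹ = y * ((x' : Y) : G) * y⁻¹ := Subtype.ext_iff.1 e
      exact Subtype.ext (Subtype.ext (mul_left_cancel (mul_right_cancel e1)))
  have hfE : ∀ x ∈ E, x • zer ∈ orbit Y ω0 \ {inf} := by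
    intro x hx
    refine ⟨hinv x (mem_inf.1 hx).1 _ hZ, fun e => hiz ?_⟩
    have h1 : x • zer = inf := e
    have h2 := hfixB x (ReeSplit.uSub_le_bSub D (mem_inf.1 hx).2)
    exact MulAction.injective x (h1.trans h2.symm)
  have hinj : Set.InjOn (fun x : G => x • zer) (E : Set G) := by
    intro x hx y hy e
    exact free_U D (mem_inf.1 hx).2 (mem_inf.1 hy).2 e
  have hcard1 : (orbit Y ω0 \ {inf}).ncard = q := by
    rw [Set.ncard_sdiff_singleton_of_mem hI, hO, Nat.add_sub_cancel]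
  have hcard2 : ((fun x : G => x • zer) '' (E : Set G)).ncard = Nat.card E := by
    rw [hinj.ncard_image]
    exact (Nat.card_coe_set_eq (E : Set G)).symm
  have himg : (fun x : G => x • zer) '' (E : Set G) = orbit Y ω0 \ {inf} := by
    apply Set.eq_of_subset_of_ncard_le
    · rintro _ ⟨x, hx, rfl⟩
      exact hfE x hx
    · rw [hcard1, hcard2]
      exact hEq
    · exact Set.toFinite _
  have hEcard : Nat.card E = q := by rw [← hcard2, himg, hcard1]
  have hsurj : ∀ ω ∈ orbit Y ω0, ω ≠ inf → ∃ x ∈ E, ω = x • zer := by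
    intro ω hω hne
    have h1 : ω ∈ orbit Y ω0 \ {inf} := ⟨hω, hne⟩
    rw [← himg] at h1
    obtain ⟨x, hx, rfl⟩ := h1
    exact ⟨x, hx, rfl⟩
  -- the torus commutes with the involution
  have htor : ∀ b : Kˣ, h b * h (-1) = h (-1) * h b := fun b => D.h_comm _ _
  have htB : h (-1) ∈ ReeSplit.bSub D := ReeSplit.h_mem_bSub D _
  have hfix2 : ∀ x : G, x • inf = inf → x • zer = zer → ∃ b, x = h b := by
    intro x h1 h2
    rw [← ReeSplit.mem_hSub D, ← inf_eq D]
    exact mem_inf.2 ⟨hmemB x h1, (fix_iff D x n).1 h2⟩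
  -- the element `w1`
  obtain ⟨w1, hw1, hw1c⟩ : ∃ w1 ∈ Y, w1 • inf = zer ∧ w1 * h (-1) = h (-1) * w1 := by
    obtain ⟨y1, hy1, e1⟩ := hOmem inf hI zer hZ
    obtain ⟨x, hx, e2⟩ := hsurj (y1⁻¹ • inf) (hinv _ (inv_mem hy1) _ hI) (by
      intro e
      rw [inv_smul_eq_iff] at e
      exact hiz (e1.symm.trans e.symm))
    have hxB := hfixB x (ReeSplit.uSub_le_bSub D (mem_inf.1 hx).2)
    have h1 : (y1 * x) • inf = zer := by rw [mul_smul, hxB, e1]
    have h2 : (y1 * x) • zer = inf := by rw [mul_smul, ← e2, smul_inv_smul]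
    have hnz : n • zer = inf := by
      show ((n * n : G) : G ⧸ ReeSplit.bSub D) = _
      rw [D.n_n]
    have hni : n • inf = zer := by
      show ((n * 1 : G) : G ⧸ ReeSplit.bSub D) = _
      rw [mul_one]
    obtain ⟨b, hb⟩ := hfix2 (n * (y1 * x)) (by rw [mul_smul, h1, hnz]) (by rw [mul_smul, h2, hni])
    refine ⟨y1 * x, mul_mem hy1 (mem_inf.1 hx).1, h1, ?_⟩
    have h3 : y1 * x = n * h b := by
      rw [← hb, ← mul_assoc, D.n_n, one_mul]
    rw [h3, mul_assoc, htor, ← mul_assoc, D.n_h, inv_neg_one, mul_assoc]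
  obtain ⟨hw1i, hw1t⟩ := hw1c
  have hEt : ∀ x ∈ E, h (-1) * x * (h (-1))⁻¹ ∈ E := by
    intro x hx
    exact mem_inf.2 ⟨ht x (mem_inf.1 hx).1, ReeSplit.conj_mem_uSub D htB (mem_inf.1 hx).2⟩
  -- the dichotomy
  let C : Subgroup G := E ⊓ centralizer {h (-1)}
  have hCE : C ≤ E := inf_le_left
  have hdvd := card_modA D hK (C := C) (hCE.trans inf_le_right) (by
    intro x hx c hc
    have hxB : x ∈ ReeSplit.bSub D := by
      obtain ⟨b, rfl⟩ := (ReeSplit.mem_hSub D).1 (ReeSplit.aSub_le D hx)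
      exact ReeSplit.h_mem_bSub D b
    refine mem_inf.2 ⟨mem_inf.2 ⟨mul_mem (mul_mem (hA hx) (mem_inf.1 (mem_inf.1 hc).1).1) (inv_mem (hA hx)),
      ReeSplit.conj_mem_uSub D hxB (mem_inf.1 (mem_inf.1 hc).1).2⟩, ?_⟩
    have h1 : x ∈ centralizer {h (-1)} := by
      obtain ⟨b, rfl⟩ := (ReeSplit.mem_hSub D).1 (ReeSplit.aSub_le D hx)
      exact mem_centralizer_singleton_iff.2 (htor b)
    exact mul_mem (mul_mem h1 (mem_inf.1 hc).2) (inv_mem h1))
  have hCodd : Nat.card C % 2 = 1 := by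
    have h1 : Nat.card C ∣ q ^ 3 := by
      rw [← Dl.card_U]
      exact Subgroup.card_dvd_of_le (hCE.trans inf_le_right)
    have h2 : (q ^ 3) % 2 = 1 := by
      have : q % 2 = 1 := by omega
      rw [Nat.pow_mod, this]
    have h3 : Odd (Nat.card C) := Odd.of_dvd_nat (Nat.odd_iff.2 h2) h1
    exact Nat.odd_iff.1 h3
  have hCle : Nat.card C ≤ q := by
    rw [← hEcard]
    exact Subgroup.card_le_of_le hCE
  have hC0 : 0 < Nat.card C := Nat.card_pos
  rw [← hqdef] at hdvd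
  have hdich : C = ⊥ ∨ C = E := by
    obtain ⟨j, hj⟩ := hdvd
    have hj3 : j < 3 := by
      by_contra hcon
      have h1 : (q - 1) / 2 * 3 ≤ (q - 1) / 2 * j := Nat.mul_le_mul_left _ (by omega)
      omega
    rcases (by omega : j = 0 ∨ j = 1 ∨ j = 2) with rfl | rfl | rfl
    · left
      exact Subgroup.card_eq_one.1 (by omega)
    · exfalso
      omega
    · right
      apply Subgroup.eq_of_le_of_card_ge hCE
      rw [hEcard]
      omega
  rcases hdich with hC | hC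
  · exfalso
    obtain ⟨V, hVY, hV4, hVc⟩ := hV
    have hVfix : ∀ v ∈ V, v • inf = inf ∨ v • inf = zer := by
      intro v hv
      by_cases h1 : v • inf = inf
      · exact Or.inl h1
      right
      obtain ⟨x, hx, e⟩ := hsurj (v • inf) (hinv v (hVY hv) _ hI) h1
      have h2 : h (-1) • (v • inf) = v • inf := by
        rw [← mul_smul, ← (hVc v hv).2, mul_smul, hfixB _ htB]
      have h3 : h (-1) * x * (h (-1))⁻¹ = x := by
        apply free_U D (mem_inf.1 (hEt x hx)).2 (mem_inf.1 hx).2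
        have h4 : (h (-1))⁻¹ • zer = zer := by
          rw [inv_smul_eq_iff]
          exact ((fix_iff D _ _).2 (h_mem_cj D _)).symm
        show (h (-1) * x * (h (-1))⁻¹) • zer = x • zer
        rw [mul_smul, h4, mul_smul, ← e, h2]
      have h4 : x ∈ C := mem_inf.2 ⟨hx, mem_centralizer_singleton_iff.2 (mul_inv_eq_iff_eq_mul.1 h3).symm⟩
      rw [hC, mem_bot] at h4
      rw [e, h4, one_smul]
    obtain ⟨v, hv, hv1, hvi⟩ : ∃ v ∈ V, v ≠ 1 ∧ v • inf = inf := by
      by_contra hcon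
      push Not at hcon
      have h1 : Nat.card V ≤ Nat.card ({inf, zer} : Set (G ⧸ ReeSplit.bSub D)) := by
        refine Nat.card_le_card_of_injective (fun v : V => (⟨v • inf, ?_⟩ : ({inf, zer} : Set (G ⧸ ReeSplit.bSub D)))) ?_
        · rcases hVfix v v.2 with h2 | h2
          · exact Or.inl h2
          · exact Or.inr h2
        · intro v v' e
          have e1 : (v : G) • inf = (v' : G) • inf := Subtype.ext_iff.1 e
          by_contra hne
          apply hcon ((v' : G)⁻¹ * v) (mul_mem (inv_mem v'.2) v.2)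
          · intro e2
            rw [inv_mul_eq_one] at e2
            exact hne (Subtype.ext e2.symm)
          · rw [mul_smul, e1, inv_smul_smul]
      have h2 : Nat.card ({inf, zer} : Set (G ⧸ ReeSplit.bSub D)) = 2 := by
        rw [Nat.card_coe_set_eq, Set.ncard_pair hiz.symm]
      omega
    -- the stabiliser of `∞` in `Y` has odd order
    have h1 : Nat.card Y = Nat.card (stabilizer Y inf) * (q + 1) := by
      rw [← hO]
      have h2 : orbit Y ω0 = orbit Y inf := (orbit_eq_iff.2 hI).symm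
      rw [h2, ← MulAction.index_stabilizer, Subgroup.card_mul_index]
    have h2 : 2 ∣ Nat.card (stabilizer Y inf) := by
      have h3 : (⟨v, hVY hv⟩ : Y) ∈ stabilizer Y inf := hvi
      have h4 : orderOf (⟨⟨v, hVY hv⟩, h3⟩ : stabilizer Y inf) = 2 := by
        apply orderOf_eq_prime
        · apply Subtype.ext
          apply Subtype.ext
          show v ^ 2 = 1
          rw [pow_two]
          exact (hVc v hv).1
        · intro e
          exact hv1 (congrArg (fun z : stabilizer Y inf => ((z : Y) : G)) e)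
      rw [← h4]
      exact orderOf_dvd_natCard _
    obtain ⟨l, hl⟩ := h2
    obtain ⟨t, ht'⟩ : ∃ t, q = 8 * t + 3 := ⟨q / 8, by omega⟩
    rw [h1, hl] at hY
    have h3 : (q ^ 2 - 1) = (q - 1) * (q + 1) := by
      obtain ⟨s, hs⟩ : ∃ s, q = s + 1 := ⟨q - 1, by omega⟩
      rw [hs, Nat.add_sub_cancel]
      have : (s + 1) ^ 2 = s * (s + 1 + 1) + 1 := by ring
      omega
    rw [h3] at hY
    have h4 : 4 * l = q * (q - 1) := by
      have : (4 * l) * (q + 1) = (q * (q - 1)) * (q + 1) := by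
        calc (4 * l) * (q + 1) = 2 * (2 * l * (q + 1)) := by ring
          _ = q * ((q - 1) * (q + 1)) := hY
          _ = _ := by ring
      exact Nat.eq_of_mul_eq_mul_right (by omega) this
    have h5 : q * (q - 1) = 4 * (16 * t * t + 10 * t + 1) + 2 := by
      rw [ht']
      have : 8 * t + 3 - 1 = 8 * t + 2 := by omega
      rw [this]
      ring
    omega
  -- the involution centralises `E`
  have hEc : ∀ x ∈ E, x * h (-1) = h (-1) * x := by
    intro x hx
    rw [← hC] at hx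
    exact mem_centralizer_singleton_iff.1 (mem_inf.1 hx).2
  have hBc : ∀ y ∈ Y, y • inf = inf → y * h (-1) = h (-1) * y := by
    intro y hy hyi
    obtain ⟨x, hx, e⟩ := hsurj (y • zer) (hinv y hy _ hZ) (by
      intro e
      exact hiz (MulAction.injective y (e.trans hyi.symm)))
    have hxB := hfixB x (ReeSplit.uSub_le_bSub D (mem_inf.1 hx).2)
    obtain ⟨b, hb⟩ := hfix2 (x⁻¹ * y) (by rw [mul_smul, hyi, inv_smul_eq_iff, hxB]) (by
      rw [mul_smul, e, inv_smul_smul])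
    have h1 : y = x * h b := by rw [← hb]; group
    rw [h1, mul_assoc, htor, ← mul_assoc, hEc x hx, mul_assoc]
  intro y hy
  by_cases hyi : y • inf = inf
  · exact hBc y hy hyi
  obtain ⟨x, hx, e⟩ := hsurj (y • inf) (hinv y hy _ hI) hyi
  have h1 := hBc ((x * w1)⁻¹ * y) (mul_mem (inv_mem (mul_mem (mem_inf.1 hx).1 hw1)) hy) (by
    rw [mul_smul, e, inv_smul_eq_iff, mul_smul, hw1i])
  have h2 : (x * w1) * h (-1) = h (-1) * (x * w1) := by
    rw [mul_assoc, hw1t, ← mul_assoc, hEc x hx, mul_assoc]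
  calc y * h (-1) = (x * w1) * (((x * w1)⁻¹ * y) * h (-1)) := by group
    _ = (x * w1) * h (-1) * ((x * w1)⁻¹ * y) := by rw [h1]; group
    _ = h (-1) * (x * w1) * ((x * w1)⁻¹ * y) := by rw [h2]
    _ = h (-1) * y := by group

end Cfsg.Agent.H137.EPX.R1Ree
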