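import Cfsg.Agent.H247.EPR.ReeBase
import Cfsg.Agent.S1156
import Cfsg.Agent.S1073

/-!
# Extremely primitive groups: the small Ree groups, case AFF (helper137)

The stabiliser has no abelian normal subgroup.
-/

set_option autoImplicit false
set_option linter.unusedSectionVars false

namespace Cfsg.Agent.H137.EPX

open MulAction Subgroup Cfsg.Agent.H284 Cfsg.Agent.H209.EPX
open Cfsg.Agent.LieRecognition
open Cfsg.Agent.H963

/-- the centraliser of a nontrivial element of `X` is in `H` -/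
theorem cent_mem_le {G : Type*} [Group G] [Finite G] {H X : Subgroup G} (h : EPA2 H X) {z : G} (hz : z ∈ X)
    (hz1 : z ≠ 1) {c : G} (hc : c * z = z * c) : c ∈ H := by
  by_contra hcH
  have h1 : z ∈ X ⊓ cj c H := by
    refine mem_inf.2 ⟨hz, ?_⟩
    rw [mem_cj]
    have e : c⁻¹ * z * c = z := by rw [mul_assoc, ← hc, inv_mul_cancel_left]
    rw [e]
    exact h.m.le hz
  rw [h.ep.ab_inf h.m.le h.m.nrm h.m.ne h.ab hcH, mem_bot] at h1
  exact hz1 h1

/-- `C_G(X) ≤ X` -/
theorem cent_all {G : Type*} [Group G] [Finite G] {H X : Subgroup G} (h : EPA2 H X) {c : G}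
    (hc : ∀ a ∈ X, c * a = a * c) : c ∈ X :=
  h.ep.ab_cent h.m.le h.m.nrm h.m.ne h.ab (h.ep.cent_le h.m.toNIn h.m.ne hc) hc

theorem ree_aff {K : Type} [Field K] [Fintype K] {m : ℕ} (hm : 1 ≤ m) (hK : Fintype.card K = 3 ^ (2 * m + 1))
    {H X : Subgroup ↥(Cfsg.Lie.twistedG2 K (3 ^ m))} (h : EPA2 H X) : False := by
  classical
  have hfin := H125.TwoRee.finite_ree hm hK
  have hs : IsSimpleGroup ↥(Cfsg.Lie.twistedG2 K (3 ^ m)) := (Cfsg.Agent.S1073.result hm hK).1
  have C := ReeFive.ctx_of_equiv hm hK (MulEquiv.refl ↥(Cfsg.Lie.twistedG2 K (3 ^ m)))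
  have A := ReeSep.ar hm
  have hq27 := A.q27
  set q := 3 ^ (2 * m + 1) with hq
  obtain ⟨r, hr, hre⟩ := h.ep.ab_elem h.m.le h.m.nrm h.m.ne h.ab
  have hfr : Fact r.Prime := ⟨hr⟩
  have hXp : IsPGroup r X := fun x => ⟨1, by
    rw [pow_one]
    exact Subtype.ext (hre x x.2)⟩
  obtain ⟨z, hz, hz1⟩ : ∃ z ∈ X, z ≠ 1 := by
    by_contra hcon
    push Not at hcon
    exact h.m.ne ((Subgroup.eq_bot_iff_forall X).2 hcon)
  by_cases h2 : r = 2
  · subst h2
    obtain ⟨P, hP⟩ := hXp.exists_le_sylow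
    have hPab : ∀ a ∈ P, ∀ b ∈ P, a * b = b * a := by
      intro a ha b hb
      have h1 := C.sq P _ (mul_mem ha hb)
      have ha2 := C.sq P a ha
      have hb2 := C.sq P b hb
      have ea : a⁻¹ = a := inv_eq_of_mul_eq_one_right ha2
      have eb : b⁻¹ = b := inv_eq_of_mul_eq_one_right hb2
      have e : (a * b)⁻¹ = a * b := inv_eq_of_mul_eq_one_right h1
      rw [← e, mul_inv_rev, ea, eb]
    have hPX : (P : Subgroup _) = X := by
      apply le_antisymm _ hP
      intro c hc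
      exact cent_all h fun a ha => hPab c hc a (hP ha)
    have h1 : H ≤ normalizer ((P : Subgroup ↥(Cfsg.Lie.twistedG2 K (3 ^ m))) : Set _) := by
      rw [hPX]
      intro g hg
      rw [Subgroup.mem_normalizer_iff]
      intro x
      constructor
      · exact h.m.nrm g hg x
      · intro hx
        have h3 := h.m.nrm g⁻¹ (inv_mem hg) _ hx
        have e : g⁻¹ * (g * x * g⁻¹) * g⁻¹⁻¹ = x := by group
        rwa [e] at h3
    have h3 := Nat.le_of_dvd (by rw [C.norm2 P]; norm_num) (Subgroup.card_dvd_of_le h1)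
    rw [C.norm2 P] at h3
    have h4 : centralizer {z} ≤ H := by
      intro c hc
      rw [Subgroup.mem_centralizer_singleton_iff] at hc
      exact cent_mem_le h hz hz1 hc
    have h5 := Nat.le_of_dvd Nat.card_pos (Subgroup.card_dvd_of_le h4)
    rw [C.cardC z hz1 (by rw [← pow_two]; exact hre z hz), ← hq] at h5
    have h6 := (ReeSepB.cent_size hq27).1
    omega
  by_cases h3 : r = 3
  · subst h3
    obtain ⟨U', h', n', D, hXD⟩ := H247.EPR.exists_data (ReeFinal.data hK) hK hXp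
    have Dl := ReeSetup.local_of_data D hK
    have hz0 : ∀ v, U' 0 0 v ∈ X := by
      intro v
      apply cent_all h
      intro a ha
      exact H247.EPR.zU_comm D _ (H247.EPR.U_mem_zU D v) a (hXD ha)
    have hne1 : U' 0 0 1 ≠ 1 := by
      intro e
      rw [← D.U_zero] at e
      obtain ⟨-, -, h1⟩ := ReeSylowThree.U_injective D e
      exact one_ne_zero h1
    have hUH : ReeSylowThree.uSub D ≤ H := by
      intro c hc
      exact cent_mem_le h (hz0 1) hne1 (H247.EPR.zU_comm D _ (H247.EPR.U_mem_zU D 1) c hc).symm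
    have hHB : H ≤ ReeSplit.bSub D := by
      intro g hg
      apply Dl.TI_U (U' 0 0 1) (H247.EPR.zU_le D (H247.EPR.U_mem_zU D 1)) hne1 g
      have h1 := h.m.nrm g⁻¹ (inv_mem hg) _ (hz0 1)
      rw [inv_inv] at h1
      exact hXD h1
    have hUn : ∀ g ∈ H, ∀ k ∈ ReeSylowThree.uSub D, g * k * g⁻¹ ∈ ReeSylowThree.uSub D :=
      fun g hg k hk => ReeSplit.conj_mem_uSub D (hHB hg) hk
    have hUab := h.ep.nilp_ab hUH hUn (H247.EPR.isPGroup_uSub D hK).isNilpotent
    have hUX : ReeSylowThree.uSub D ≤ X := by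
      intro c hc
      exact cent_all h fun a ha => hUab c hc a (hXD ha)
    have h4 := hre _ (hUX ⟨1, 0, 0, rfl⟩ : U' 1 0 0 ∈ X)
    rw [ReeSplit.U_cube D hK, ← D.U_zero] at h4
    obtain ⟨-, -, h5⟩ := ReeSylowThree.U_injective D h4
    simp at h5
  have h5 : 3 < r := by
    have := hr.two_le
    omega
  obtain ⟨P, hP⟩ := hXp.exists_le_sylow
  have hPc := Cfsg.Agent.S1156.result hm hK h5 P
  have hXc : IsCyclic X := isCyclic_of_injective (Subgroup.inclusion hP) (Subgroup.inclusion_injective hP)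
  have hXr : Nat.card X = r := by
    obtain ⟨g, hg⟩ := hXc.exists_generator
    have h6 : orderOf g = Nat.card X := orderOf_eq_card_of_forall_mem_zpowers hg
    have h7 : orderOf g ∣ r := orderOf_dvd_of_pow_eq_one (Subtype.ext (hre g g.2))
    rcases (Nat.dvd_prime hr).1 h7 with h8 | h8
    · exfalso
      rw [h8] at h6
      exact h.m.ne (Subgroup.card_eq_one.1 h6.symm)
    · rw [← h6, h8]
  have hG : ¬ ∀ a b : ↥(Cfsg.Lie.twistedG2 K (3 ^ m)), a * b = b * a := by
    intro hab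
    have h6 : centralizer {z} = (⊤ : Subgroup ↥(Cfsg.Lie.twistedG2 K (3 ^ m))) := by
      rw [Subgroup.eq_top_iff']
      intro c
      rw [Subgroup.mem_centralizer_singleton_iff]
      exact hab c z
    have h7 : H = ⊤ := by
      rw [Subgroup.eq_top_iff']
      intro c
      exact cent_mem_le h hz hz1 (hab c z)
    exact h.ep.max.1 h7
  have h6 := H247.EPR.card_le_of_prime hG h.ep h.m.le h.m.nrm hr hXr
  rw [C.card_G] at h6
  -- `r ≤ q + s + 1`
  have hzo : orderOf z = r := orderOf_eq_prime (hre z hz) hz1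
  have hsle := A.sle
  rw [← hq] at h6
  have h7 : r ≤ q + 3 ^ (m + 1) + 1 := by
    have ho := C.orders z
    rw [hzo, ← hq] at ho
    rcases ho with h8 | h8 | h8 | h8 | h8 | h8
    · have := Nat.le_of_dvd (by norm_num) h8
      omega
    · have := Nat.le_of_dvd (by norm_num) h8
      omega
    · have := Nat.le_of_dvd (by omega) h8
      omega
    · have := Nat.le_of_dvd (by omega) h8
      omega
    · have := Nat.le_of_dvd (by omega) h8
      omega
    · exact Nat.le_of_dvd (by omega) h8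
  have h8 : r ≤ 2 * q := by omega
  have h9 : r ^ 3 * (r - 1) ≤ (2 * q) ^ 4 := by
    calc r ^ 3 * (r - 1) ≤ r ^ 3 * r := Nat.mul_le_mul_left _ (Nat.sub_le _ _)
      _ = r ^ 4 := by ring
      _ ≤ (2 * q) ^ 4 := Nat.pow_le_pow_left h8 4
  have h10 : (2 * q) ^ 4 < q ^ 3 * (q - 1) * (q ^ 3 + 1) := by
    have h11 : 16 * q ^ 4 < q ^ 4 * q ^ 3 := by
      rw [mul_comm 16]
      apply Nat.mul_lt_mul_of_pos_left _ (by positivity)
      calc 16 < 27 ^ 3 := by norm_num
        _ ≤ q ^ 3 := Nat.pow_le_pow_left hq27 3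
    obtain ⟨t, ht⟩ : ∃ t, q = t + 1 := ⟨q - 1, by omega⟩
    have h12 : 16 * q ≤ (q - 1) * q ^ 3 := by
      calc 16 * q ≤ (q - 1) * q := Nat.mul_le_mul_right _ (by omega)
        _ ≤ (q - 1) * q ^ 3 := Nat.mul_le_mul_left _ (by
          calc q = q ^ 1 := (pow_one q).symm
            _ ≤ q ^ 3 := Nat.pow_le_pow_right (by omega) (by norm_num))
    calc (2 * q) ^ 4 = q ^ 3 * (16 * q) := by ring
      _ ≤ q ^ 3 * ((q - 1) * q ^ 3) := Nat.mul_le_mul_left _ h12
      _ < q ^ 3 * ((q - 1) * (q ^ 3 + 1)) := by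
        apply Nat.mul_lt_mul_of_pos_left _ (by positivity)
        apply Nat.mul_lt_mul_of_pos_left _ (by omega)
        omega
      _ = q ^ 3 * (q - 1) * (q ^ 3 + 1) := by ring
  omega

end Cfsg.Agent.H137.EPX
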